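import Mathlib.AlgebraicGeometry.Sites.Fpqc
import Groth.Agent.L25.MultTypeBC

/-!
# fpqc coverings with one member are effective epimorphisms
-/

set_option autoImplicit false
universe u

open CategoryTheory CategoryTheory.Limits AlgebraicGeometry

set_option backward.isDefEq.respectTransparency.types false

namespace Groth.L25.Descent

variable {X Y : Scheme.{u}}

/-- a flat surjection such that quasi-compact opens of the target lift is an fpqc covering -/
theorem singleton_mem_fpqcPrecoverage (f : X ⟶ Y) [Flat f] [Surjective f]
    (hcov : ∀ V : Y.Opens, IsAffineOpen V → ∃ W : X.Opens, IsCompact (W : Set X) ∧ f.base '' (W : Set X) = (V : Set Y)) :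
    Presieve.singleton f ∈ Scheme.fpqcPrecoverage Y := by
  refine ⟨?_, ?_⟩
  · rw [Scheme.qcPrecoverage, PreZeroHypercoverFamily.mem_precoverage_iff]
    refine ⟨(f.cover (P := ⊤) trivial).toPreZeroHypercover, ?_, by simp⟩
    simp only [Scheme.qcCoverFamily_property, Scheme.quasiCompactCover_iff]
    refine ⟨fun {U} hU => ?_⟩
    obtain ⟨W, hW, hWV⟩ := hcov U hU
    exact IsCompactOpenCovered.of_finite (κ := PUnit.{1}) (fun _ => PUnit.unit) (fun _ => W) (fun _ => hW)
      ((Set.iUnion_const _).trans hWV)
  · rw [Scheme.singleton_mem_precoverage_iff]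
    exact ⟨f.surjective, inferInstance⟩

/-- such a morphism is an effective epimorphism -/
theorem effectiveEpi_of_cover (f : X ⟶ Y) [Flat f] [Surjective f]
    (hcov : ∀ V : Y.Opens, IsAffineOpen V → ∃ W : X.Opens, IsCompact (W : Set X) ∧ f.base '' (W : Set X) = (V : Set Y)) :
    EffectiveEpi f := by
  rw [← Sieve.effectiveEpimorphic_singleton,
    Presieve.EffectiveEpimorphic.iff_forall_isSheafFor_yoneda]
  intro Z
  exact (GrothendieckTopology.Subcanonical.isSheaf_of_isRepresentable _).isSheafFor _
    (Precoverage.generate_mem_toGrothendieck (singleton_mem_fpqcPrecoverage f hcov))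

/-- base changes of such morphisms are effective epimorphisms -/
theorem effectiveEpi_pullback_fst {T : Scheme.{u}} (g : T ⟶ Y) (f : X ⟶ Y) [Flat f] [Surjective f]
    (hcov : ∀ V : Y.Opens, IsAffineOpen V → ∃ W : X.Opens, IsCompact (W : Set X) ∧ f.base '' (W : Set X) = (V : Set Y)) :
    EffectiveEpi (pullback.fst g f) := by
  have : Flat (pullback.fst g f) := MorphismProperty.pullback_fst g f inferInstance
  have : Surjective (pullback.fst g f) := MorphismProperty.pullback_fst g f inferInstance
  exact effectiveEpi_of_cover _ fun V hV => MultTypeBC.exists_compact_image f hcov g V hV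

end Groth.L25.Descent
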