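import Groth.Agent.L25.Descent.EffEpi
import Groth.Agent.L20.SchDesc.Sigma

/-!
# Flat surjections lifting quasi-compact opens are coverings for scheme descent
-/

set_option autoImplicit false
universe u

open CategoryTheory CategoryTheory.Limits AlgebraicGeometry

set_option backward.isDefEq.respectTransparency.types false

namespace Groth.L25.Descent

/-- a flat surjection such that affine opens of the target are images of compact opens is a covering -/
theorem cov_of_cover {X Y : Scheme.{u}} (f : X ⟶ Y) [Flat f] [Surjective f]
    (hcov : ∀ V : Y.Opens, IsAffineOpen V → ∃ W : X.Opens, IsCompact (W : Set X) ∧ f.base '' (W : Set X) = (V : Set Y)) :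
    Groth.L20.SchDesc.Cov f := by
  let A : PUnit.{u + 1} → Scheme.{u} := fun _ => X
  have hc := Groth.L20.SchDesc.cov_sigmaDesc (A := A) (fun _ => f) (by
    rw [Presieve.ofArrows_pUnit]
    exact singleton_mem_fpqcPrecoverage f hcov)
  obtain ⟨Y', Z, h, e, z, he, h1, h2, h3, h4, h5, h6⟩ := hc.exists_chart
  refine ⟨inferInstance, inferInstance, Y', Z, h ≫ Sigma.desc (fun _ => 𝟙 X), e, z, ?_, h1, h2, h3, h4, h5, h6⟩
  rw [Category.assoc, ← he]
  congr 1
  exact Sigma.hom_ext _ _ fun _ => by simp [A]

end Groth.L25.Descent
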