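import Groth.Agent.L25.Descent.Invariance
import Groth.Agent.L25.Descent.CovOfQC
import Groth.Agent.L25.FpqcLocal
import Groth.Agent.L20.SchDesc.Main
import Groth.Agent.L23.ImmersionDescent
import Groth.Agent.L25.HomSmooth.Main

/-!
# Central subgroups of multiplicative type descend along coverings with connected geometric fibres
-/

set_option autoImplicit false
universe u

open CategoryTheory CategoryTheory.Limits MonoidalCategory CartesianMonoidalCategory
open AlgebraicGeometry
open scoped MonObj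

set_option backward.isDefEq.respectTransparency.types false

noncomputable section

namespace Groth.L25.Descent

variable {S S' : Scheme.{u}} {π : S' ⟶ S} {G : Over S} [GrpObj G] {H' : Over S'} [GrpObj H']
  (j' : H' ⟶ Red.bc π G)

/-- a parameter as a change of base -/
def adjP {Y : Over S} (p : Y ⟶ Over.mk π) : Over.mk ((Over.mk p.left).hom ≫ π) ≅ Y :=
  Over.isoMk (Iso.refl _) (by
    show 𝟙 _ ≫ Y.hom = p.left ≫ π
    rw [Category.id_comp]
    exact (Over.w p).symm)

omit [GrpObj G] [GrpObj H'] in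
theorem mem_iff {Y : Over S} (x : Y ⟶ G) (p : Y ⟶ Over.mk π) :
    Mem j' x p ↔ ∃ a : Over.mk p.left ⟶ H', a ≫ j' = NilAction.ofBase π ((adjP p).hom ≫ x) := by
  have hl : (lift x p).left ≫ pullback.fst G.hom π = x.left :=
    congrArg (fun m : Y ⟶ G => m.left) (lift_fst x p)
  have hr : (lift x p).left ≫ pullback.snd G.hom π = p.left :=
    congrArg (fun m : Y ⟶ Over.mk π => m.left) (lift_snd x p)
  constructor
  · rintro ⟨w, hw⟩
    have hwj : w.left ≫ j'.left = (lift x p).left := congrArg (fun m => m.left) hw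
    let a : Over.mk p.left ⟶ H' := Over.homMk w.left (by
      show w.left ≫ H'.hom = p.left
      refine (congrArg (w.left ≫ ·) (Over.w j').symm).trans ?_
      exact ((Category.assoc _ _ _).symm.trans (congrArg (· ≫ pullback.snd G.hom π) hwj)).trans hr)
    refine ⟨a, Over.OverMorphism.ext (pullback.hom_ext ?_ ?_)⟩
    · refine Eq.trans ?_ (pullback.lift_fst _ _ _).symm
      show (w.left ≫ j'.left) ≫ pullback.fst G.hom π = 𝟙 _ ≫ x.left
      rw [Category.id_comp, hwj, hl]
    · exact (Over.w (a ≫ j')).trans (pullback.lift_snd _ _ _).symm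
  · rintro ⟨a, ha⟩
    have h1 := congrArg (fun m => m.left) ha
    refine ⟨Over.homMk a.left (by
      show a.left ≫ H'.hom ≫ π = Y.hom
      rw [← Category.assoc, Over.w a]
      exact Over.w p), Over.OverMorphism.ext (pullback.hom_ext ?_ ?_)⟩
    · refine Eq.trans ?_ hl.symm
      refine (congrArg (· ≫ pullback.fst G.hom π) h1).trans ((pullback.lift_fst _ _ _).trans ?_)
      exact Category.id_comp x.left
    · refine Eq.trans ?_ hr.symm
      exact (Over.w (a ≫ j')).trans rfl

/-- a point lies in the subgroup at all parameters -/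
def Sub (T : Over S) (x : T ⟶ G) : Prop := ∀ (Y : Over S) (t : Y ⟶ T) (p : Y ⟶ Over.mk π), Mem j' (t ≫ x) p

theorem sub_one [IsMonHom j'] : Sub j' (𝟙_ (Over S)) 1 := fun Y t p => (mem_iff j' _ p).2 ⟨1, by
  rw [MonObj.one_comp, MonObj.comp_one, MonObj.comp_one, ← NilAction.toBase_one π, NilAction.ofBase_toBase]⟩

theorem sub_mul [IsMonHom j'] (T : Over S) (x y : T ⟶ G) (hx : Sub j' T x) (hy : Sub j' T y) :
    Sub j' T (x * y) := fun Y t p => by
  obtain ⟨a, ha⟩ := (mem_iff j' _ p).1 (hx Y t p)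
  obtain ⟨b, hb⟩ := (mem_iff j' _ p).1 (hy Y t p)
  exact (mem_iff j' _ p).2 ⟨a * b, by rw [MonObj.mul_comp, ha, hb, MonObj.comp_mul, MonObj.comp_mul, Locus.ofBase_mul]⟩

theorem sub_inv [IsMonHom j'] (T : Over S) (x : T ⟶ G) (hx : Sub j' T x) : Sub j' T x⁻¹ := fun Y t p => by
  obtain ⟨a, ha⟩ := (mem_iff j' _ p).1 (hx Y t p)
  exact (mem_iff j' _ p).2 ⟨a⁻¹, by rw [GrpObj.inv_comp, ha, GrpObj.comp_inv, GrpObj.comp_inv, Locus.ofBase_inv]⟩

omit [GrpObj G] [GrpObj H'] in
/-- a descended subobject has as points the points lying in the subgroup at all parameters -/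
theorem points_iff [Flat π] [Surjective π]
    (hcov : ∀ V : S.Opens, IsAffineOpen V → ∃ W : S'.Opens, IsCompact (W : Set S') ∧ π.base '' (W : Set S') = (V : Set S))
    {H : Over S} (j : H ⟶ G) [Mono j] (φ : Red.bc π H ≅ H') (hφ : φ.hom ≫ j' = (Over.pullback π).map j)
    (T : Over S) (x : T ⟶ G) : (∃ h, h ≫ j = x) ↔ Sub j' T x := by
  constructor
  · rintro ⟨h, rfl⟩ Y t p
    refine (mem_iff j' _ p).2 ⟨NilAction.ofBase π ((adjP p).hom ≫ t ≫ h) ≫ φ.hom, ?_⟩
    rw [Category.assoc, hφ, NilAction.ofBase_comp, Category.assoc, Category.assoc]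
  · intro hx
    let q := fst T (Over.mk π)
    let p := snd T (Over.mk π)
    obtain ⟨a, ha⟩ := (mem_iff j' _ p).1 (hx _ q p)
    obtain ⟨e, he⟩ : ∃ e, e ≫ j = q ≫ x := ⟨(adjP p).inv ≫ NilAction.toBase π (a ≫ φ.inv), by
      rw [Category.assoc, ← Locus.toBase_map, ← hφ, Category.assoc, φ.inv_hom_id_assoc, ha,
        NilAction.toBase_ofBase, Iso.inv_hom_id_assoc]⟩
    have : EffectiveEpi q.left := effectiveEpi_pullback_fst T.hom π hcov
    obtain ⟨h, hh, -⟩ := Actions.existsUnique_desc q e fun Z g₁ g₂ hg => by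
      rw [← cancel_mono j, Category.assoc, Category.assoc, he, ← Category.assoc, ← Category.assoc, hg]
    have : Epi q := Over.epi_of_epi_left _
    exact ⟨h, by rw [← cancel_epi q, ← Category.assoc, hh, he]⟩

omit [GrpObj G] [GrpObj H'] in
/-- two descended subobjects are equal -/
theorem exists_iso [Flat π] [Surjective π]
    (hcov : ∀ V : S.Opens, IsAffineOpen V → ∃ W : S'.Opens, IsCompact (W : Set S') ∧ π.base '' (W : Set S') = (V : Set S))
    {H₁ H₂ : Over S} (j₁ : H₁ ⟶ G) (j₂ : H₂ ⟶ G) [Mono j₁] [Mono j₂] (φ₁ : Red.bc π H₁ ≅ H')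
    (hφ₁ : φ₁.hom ≫ j' = (Over.pullback π).map j₁) (φ₂ : Red.bc π H₂ ≅ H')
    (hφ₂ : φ₂.hom ≫ j' = (Over.pullback π).map j₂) : ∃ ψ : H₁ ≅ H₂, ψ.hom ≫ j₂ = j₁ :=
  Locus.exists_iso_of_points j₁ j₂ fun X g =>
    (points_iff j' hcov j₁ φ₁ hφ₁ X g).trans (points_iff j' hcov j₂ φ₂ hφ₂ X g).symm

/-- the descended subgroup -/
theorem exists_descended [IsSeparated G.hom] [LocallyOfFinitePresentation G.hom] [QuasiCompact G.hom]
    [QuasiSeparated G.hom] [Flat π] [Surjective π]
    (hcov : ∀ V : S.Opens, IsAffineOpen V → ∃ W : S'.Opens, IsCompact (W : Set S') ∧ π.base '' (W : Set S') = (V : Set S))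
    (hconn : ∀ s : S, ConnectedSpace ↥(pullback π (Red.geomPt s)))
    (hH' : SGA3x.IsMultTypeFT H') [IsMonHom j'] [IsImmersion j'.left]
    (hc : ∀ (X : Over S') (g : X ⟶ Red.bc π G) (h : X ⟶ H'), g * (h ≫ j') = (h ≫ j') * g) :
    ∃ (H : Over S) (j : H ⟶ G), IsImmersion j.left ∧
      ∃ φ : Red.bc π H ≅ H', φ.hom ≫ j' = (Over.pullback π).map j := by
  let q₀ := pullback.fst G.hom π
  have : Flat q₀ := MorphismProperty.pullback_fst G.hom π inferInstance
  have : Surjective q₀ := MorphismProperty.pullback_fst G.hom π inferInstance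
  have hcov₀ : ∀ V : G.left.Opens, IsAffineOpen V → ∃ W : (pullback G.hom π).Opens,
      IsCompact (W : Set ↥(pullback G.hom π)) ∧ q₀.base '' (W : Set ↥(pullback G.hom π)) = (V : Set G.left) :=
    fun V hV => MultTypeBC.exists_compact_image π hcov G.hom V hV
  have : Groth.L20.SchDesc.Cov q₀ := cov_of_cover q₀ hcov₀
  let f : H'.left ⟶ pullback G.hom π := j'.left
  have hfs : f ≫ pullback.snd G.hom π = H'.hom := Over.w j'
  have hex : ∀ {T : Scheme.{u}} (v : T ⟶ H'.left) (x : T ⟶ pullback G.hom π),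
      v ≫ f ≫ q₀ = x ≫ q₀ → ∃ w : T ⟶ H'.left, w ≫ f = x := by
    intro T v x h
    let Y : Over S := Over.mk ((x ≫ q₀) ≫ G.hom)
    let x₀ : Y ⟶ G := Over.homMk (x ≫ q₀) rfl
    let p₁ : Y ⟶ Over.mk π := Over.homMk (v ≫ H'.hom) (by
      show (v ≫ H'.hom) ≫ π = (x ≫ q₀) ≫ G.hom
      rw [← h, ← hfs]
      simp only [q₀, Category.assoc, pullback.condition])
    let p₂ : Y ⟶ Over.mk π := Over.homMk (x ≫ pullback.snd G.hom π) (by
      show (x ≫ pullback.snd G.hom π) ≫ π = (x ≫ q₀) ≫ G.hom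
      simp only [q₀, Category.assoc, pullback.condition])
    have h1 : Mem j' x₀ p₁ := ⟨Over.homMk v (by
        show v ≫ H'.hom ≫ π = Y.hom
        rw [← Category.assoc]; exact Over.w p₁), Over.OverMorphism.ext (pullback.hom_ext
      ((Category.assoc _ _ _).trans (h.trans (congrArg (fun m : Y ⟶ G => m.left) (lift_fst x₀ p₁)).symm))
      ((Category.assoc _ _ _).trans ((congrArg (v ≫ ·) hfs).trans
        (congrArg (fun m : Y ⟶ Over.mk π => m.left) (lift_snd x₀ p₁)).symm)))⟩
    obtain ⟨w, hw⟩ := mem_indep j' hH' hc hconn x₀ p₁ p₂ h1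
    refine ⟨w.left, (congrArg (fun m => m.left) hw).trans (pullback.hom_ext ?_ ?_)⟩
    · exact congrArg (fun m : Y ⟶ G => m.left) (lift_fst x₀ p₂)
    · exact congrArg (fun m : Y ⟶ Over.mk π => m.left) (lift_snd x₀ p₂)
  choose act hact using @hex
  have : IsImmersion f := ‹IsImmersion j'.left›
  let P : Groth.L20.SchDesc.Pre q₀ f :=
    { act := act
      hom := hact
      natural := fun g v x e e' => (cancel_mono f).1 (by rw [hact, Category.assoc, hact])
      self := fun v e => (cancel_mono f).1 (hact _ _ _)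
      comp := fun v x y e e' e'' => (cancel_mono f).1 (by rw [hact, hact]) }
  obtain ⟨d⟩ := Groth.L20.SchDesc.effective_of_isIndQuasiAffineHom
    (Groth.L20.isIndQuasiAffineHom_of_isImmersion f) P
  let H : Over S := Over.mk (d.a ≫ G.hom)
  let j : H ⟶ G := Over.homMk d.a rfl
  have sq : IsPullback d.q H'.hom (d.a ≫ G.hom) π := by
    have h1 := d.isPullback.flip.paste_vert (IsPullback.of_hasPullback G.hom π)
    rwa [hfs] at h1
  let e : H' ≅ Red.bc π H := Over.isoMk sq.isoPullback sq.isoPullback_hom_snd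
  have he : e.hom ≫ (Over.pullback π).map j = j' := by
    apply Over.OverMorphism.ext
    apply pullback.hom_ext
    · show (sq.isoPullback.hom ≫ ((Over.pullback π).map j).left) ≫ pullback.fst G.hom π = f ≫ q₀
      rw [Category.assoc, ActBC.pullback_map_left_fst, d.isPullback.w]
      exact sq.isoPullback_hom_fst_assoc d.a
    · exact (Over.w (e.hom ≫ (Over.pullback π).map j)).trans (Over.w j').symm
  refine ⟨H, j, ?_, e.symm, ?_⟩
  · have hqc : QuasiCompact f := by
      have : IsAffineHom H'.hom := HomSmooth.isAffineHom_of_locally (Locus.locally_of_multTypeFT hH')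
      have : QuasiSeparated (Red.bc π G).hom := MorphismProperty.pullback_snd G.hom π ‹_›
      have : QuasiCompact (f ≫ pullback.snd G.hom π) := by rw [hfs]; infer_instance
      exact QuasiCompact.of_comp f (pullback.snd G.hom π)
    have h1 : (@IsImmersion ⊓ @QuasiCompact : MorphismProperty Scheme.{u}) (pullback.snd d.a q₀) := by
      rw [← d.isPullback.flip.isoPullback_inv_snd]
      exact (MorphismProperty.cancel_left_of_respectsIso _ _ _).2 ⟨inferInstance, hqc⟩
    have := Groth.L23.descendsAlong_qcImmersion.{u}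
    refine (FpqcLocal.of_fpqc (P := (@IsImmersion ⊓ @QuasiCompact : MorphismProperty Scheme.{u}))
      d.a (𝟙 G.left) q₀ hcov₀ fun s => ⟨⊤, trivial, ?_⟩).1
    refine FpqcLocal.bc_comp d.a (pullback.snd (𝟙 G.left) ((⊤ : Scheme.Opens _).ι ≫ q₀) ≫ (⊤ : Scheme.Opens _).ι) q₀
      (pullback.fst (𝟙 G.left) ((⊤ : Scheme.Opens _).ι ≫ q₀)) ?_ h1
    rw [Category.assoc, ← pullback.condition, Category.comp_id]
  · rw [Iso.symm_hom, Iso.inv_comp_eq]
    exact he.symm

omit [GrpObj G] in
/-- being of multiplicative type descends along coverings -/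
theorem isMultTypeFT_descend {H : Over S} [GrpObj H] [Flat π] [Surjective π]
    (hcov : ∀ V : S.Opens, IsAffineOpen V → ∃ W : S'.Opens, IsCompact (W : Set S') ∧ π.base '' (W : Set S') = (V : Set S))
    (φ : Red.bc π H ≅ H') [IsMonHom φ.hom] (hH' : SGA3x.IsMultTypeFT H') : SGA3x.IsMultTypeFT H := by
  obtain ⟨S'', f, hflat, hsurj, hqc, hloc⟩ := hH'
  refine ⟨S'', f ≫ π, inferInstance, inferInstance, fun V hV => ?_, fun s => ?_⟩
  · obtain ⟨W, hW, hWV⟩ := hcov V hV
    choose D hD hzD hDW using fun z : W => show ∃ D : S'.Opens, IsAffineOpen D ∧ z.1 ∈ D ∧ D ≤ W by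
      obtain ⟨_, ⟨D, hD, rfl⟩, hz, hle⟩ := S'.isBasis_affineOpens.exists_subset_of_mem_open z.2 W.2
      exact ⟨D, hD, hz, hle⟩
    choose E hE hED using fun z => hqc (D z) (hD z)
    obtain ⟨t, ht⟩ := hW.elim_finite_subcover (fun z : W => (D z : Set S')) (fun z => (D z).2)
      (fun z hz => Set.mem_iUnion.2 ⟨⟨z, hz⟩, hzD ⟨z, hz⟩⟩)
    refine ⟨⨆ z ∈ t, E z, ?_, ?_⟩
    · simp only [TopologicalSpace.Opens.coe_iSup]
      exact t.isCompact_biUnion fun z _ => hE z
    · rw [← hWV, show ((f ≫ π).base : S'' → S) = π.base ∘ f.base from funext fun z => Scheme.Hom.comp_apply f π z,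
        Set.image_comp]
      congr 1
      simp only [TopologicalSpace.Opens.coe_iSup, Set.image_iUnion, hED]
      exact (Set.iUnion₂_subset fun z _ => hDW z).antisymm ht
  · obtain ⟨U, hU, M, inst, hfg, ⟨e⟩⟩ := hloc s
    letI := inst
    refine ⟨U, hU, M, inst, hfg, ⟨?_⟩⟩
    exact (Grp.mkIso' (ActBC.bcCompIso (U.ι ≫ f) π H (Category.assoc _ _ _))).symm ≪≫
      (Over.pullback (U.ι ≫ f)).mapGrp.mapIso (Grp.mkIso' φ) ≪≫ e

/-- descent of central subgroups of multiplicative type -/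
theorem exists_subgroup_desc [IsSeparated G.hom] [LocallyOfFinitePresentation G.hom] [QuasiCompact G.hom]
    [QuasiSeparated G.hom] [Flat π] [Surjective π]
    (hcov : ∀ V : S.Opens, IsAffineOpen V → ∃ W : S'.Opens, IsCompact (W : Set S') ∧ π.base '' (W : Set S') = (V : Set S))
    (hconn : ∀ s : S, ConnectedSpace ↥(pullback π (Red.geomPt s)))
    (hH' : SGA3x.IsMultTypeFT H') [IsMonHom j'] [IsImmersion j'.left]
    (hc : ∀ (X : Over S') (g : X ⟶ Red.bc π G) (h : X ⟶ H'), g * (h ≫ j') = (h ≫ j') * g) :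
    ∃ (H : Over S) (_ : GrpObj H) (j : H ⟶ G), IsMonHom j ∧ IsImmersion j.left ∧ SGA3x.IsMultTypeFT H ∧
      ∃ φ : Red.bc π H ≅ H', φ.hom ≫ j' = (Over.pullback π).map j := by
  obtain ⟨H, j, hj, φ, hφ⟩ := exists_descended j' hcov hconn hH' hc
  have : Mono j := Over.mono_of_mono_left j
  obtain ⟨hg, hjm⟩ := Locus.exists_subgroup j (Sub j') (points_iff j' hcov j φ hφ) (sub_one j') (sub_mul j') (sub_inv j')
  letI := hg
  have := hjm
  have : Mono j' := Over.mono_of_mono_left j'
  have : IsMonHom φ.hom := Bridge.isMonHom_of_mul φ.hom fun Y a b => by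
    rw [← cancel_mono j', Category.assoc, hφ, MonObj.mul_comp (a ≫ φ.hom) (b ≫ φ.hom) j', Category.assoc, Category.assoc, hφ]
    exact MonObj.mul_comp a b ((Over.pullback π).map j)
  exact ⟨H, hg, j, hjm, hj, isMultTypeFT_descend hcov φ hH', φ, hφ⟩

end Groth.L25.Descent
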