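import Groth.Agent.L25.Descent.EffEpi
import Groth.Agent.L25.Actions
import Groth.Agent.L25.Locus.CentNorm
import Groth.Agent.L25.Cocycle.Subgroups
import Groth.Agent.L25.Bridge.TorsionLift
import Groth.Agent.L25.HomSmooth.Glue
import Groth.Agent.L27.SGA1.FieldFibres
import Mathlib.AlgebraicGeometry.Geometrically.Connected
import Mathlib.AlgebraicGeometry.Morphisms.IsIso

/-!
# Central homomorphisms descend along coverings with geometrically connected fibres
-/

set_option autoImplicit false
universe u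

open CategoryTheory CategoryTheory.Limits MonoidalCategory CartesianMonoidalCategory
open AlgebraicGeometry
open scoped MonObj

set_option backward.isDefEq.respectTransparency.types false

noncomputable section

namespace Groth.L25.Descent

/-- connected schemes over separably closed fields are geometrically connected -/
theorem geometricallyConnected_of_connected {K : Type u} [Field K] [IsSepClosed K] {X : Scheme.{u}}
    (a : X ⟶ Spec (CommRingCat.of K)) [ConnectedSpace X] : GeometricallyConnected a := by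
  refine ⟨geometrically_iff_of_isClosedUnderIsomorphisms.2 fun L _ y => ?_⟩
  obtain ⟨φ, rfl⟩ : ∃ φ, Spec.map φ = y := ⟨_, Spec.map_preimage _⟩
  letI : Algebra K L := φ.hom.toAlgebra
  exact Groth.L27.SGA1Conn.connectedSpace (pullback.fst a (Spec.map φ))
    (Groth.L27.SGA1Conn.univSubmersive_fieldExt (K := L) a)
    fun Ω _ _ s => Groth.L27.SGA1Conn.connectedSpace_fibre (K := L) a s

/-- geometric fibres of the square of a morphism with connected geometric fibres are connected -/
theorem connectedSpace_square {S S' : Scheme.{u}} (π : S' ⟶ S) {K : Type u} [Field K] [IsSepClosed K]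
    (c : Spec (CommRingCat.of K) ⟶ S) [ConnectedSpace ↥(pullback π c)] :
    ConnectedSpace ↥(pullback (pullback.fst π π ≫ π) c) := by
  let a := pullback.snd π c
  have := geometricallyConnected_of_connected a
  have hc : ConnectedSpace ↥(pullback a a) := inferInstance
  let m : pullback a a ⟶ pullback π π :=
    pullback.lift (pullback.fst a a ≫ pullback.fst π c) (pullback.snd a a ≫ pullback.fst π c) (by
      simp only [Category.assoc, pullback.condition]
      exact pullback.condition_assoc c)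
  let φ : pullback a a ⟶ pullback (pullback.fst π π ≫ π) c :=
    pullback.lift m (pullback.fst a a ≫ a) (by
      simp only [m, Category.assoc, pullback.lift_fst_assoc, a]
      rw [pullback.condition])
  let r₁ : pullback (pullback.fst π π ≫ π) c ⟶ pullback π c :=
    pullback.lift (pullback.fst _ _ ≫ pullback.fst π π) (pullback.snd _ _) (by
      rw [Category.assoc]; exact pullback.condition)
  let r₂ : pullback (pullback.fst π π ≫ π) c ⟶ pullback π c :=
    pullback.lift (pullback.fst _ _ ≫ pullback.snd π π) (pullback.snd _ _) (by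
      rw [Category.assoc, ← pullback.condition]; exact pullback.condition)
  let ψ : pullback (pullback.fst π π ≫ π) c ⟶ pullback a a := pullback.lift r₁ r₂ (by
    simp only [r₁, r₂, a, pullback.lift_snd])
  have hψ : ψ ≫ φ = 𝟙 _ := by
    apply pullback.hom_ext
    · apply pullback.hom_ext
      · simp only [ψ, φ, m, r₁, Category.assoc, pullback.lift_fst, pullback.lift_fst_assoc, Category.id_comp]
      · simp only [ψ, φ, m, r₂, Category.assoc, pullback.lift_fst, pullback.lift_snd, pullback.lift_fst_assoc,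
          pullback.lift_snd_assoc, Category.id_comp]
    · simp only [ψ, φ, r₁, a, Category.assoc, pullback.lift_snd, pullback.lift_fst_assoc, Category.id_comp]
  have hs : Function.Surjective φ := fun z => ⟨ψ z, by
    rw [← Scheme.Hom.comp_apply, hψ]; rfl⟩
  exact hs.connectedSpace φ.continuous

/-- a clopen subscheme of `S' ×ₛ S'` containing the diagonal is everything -/
theorem surjective_of_diagonal {S S' W : Scheme.{u}} (π : S' ⟶ S)
    (hconn : ∀ s : S, ConnectedSpace ↥(pullback π (Red.geomPt s))) (i : W ⟶ pullback π π)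
    [IsOpenImmersion i] [IsClosedImmersion i] (d : S' ⟶ W) (hd : d ≫ i = pullback.diagonal π) :
    Surjective i := by
  refine ⟨fun z => ?_⟩
  let s : S := (pullback.fst π π ≫ π) z
  let c := Red.geomPt s
  have := hconn s
  have := connectedSpace_square π c
  have hz : z ∈ Set.range (pullback.fst (pullback.fst π π ≫ π) c) := by
    rw [Scheme.Pullback.range_fst]
    refine ⟨default, ?_⟩
    show c default = s
    simp only [c, Red.geomPt, Scheme.Hom.comp_apply]
    exact Scheme.fromSpecResidueField_apply s _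
  let p := pullback.fst (pullback.fst π π ≫ π) c
  have hU : IsClopen (p ⁻¹' Set.range i) :=
    ⟨i.isClosedEmbedding.isClosed_range.preimage p.continuous, i.isOpenEmbedding.isOpen_range.preimage p.continuous⟩
  obtain ⟨x⟩ : Nonempty ↥(pullback π c) := inferInstance
  have hne : (p ⁻¹' Set.range i).Nonempty := by
    let δ : pullback π c ⟶ pullback (pullback.fst π π ≫ π) c :=
      pullback.lift (pullback.fst π c ≫ pullback.diagonal π) (pullback.snd π c) (by
        rw [Category.assoc, pullback.diagonal_fst_assoc]; exact pullback.condition)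
    refine ⟨δ x, d (pullback.fst π c x), ?_⟩
    rw [← Scheme.Hom.comp_apply, hd, ← Scheme.Hom.comp_apply, ← Scheme.Hom.comp_apply, pullback.lift_fst]
  obtain ⟨y, hyz⟩ := hz
  have hy : y ∈ p ⁻¹' Set.range i := by rw [hU.eq_univ hne]; trivial
  obtain ⟨w, hw⟩ := hy
  exact ⟨w, hw.trans hyz⟩

variable {S : Scheme.{u}} {H G T : Over S} [GrpObj H] [GrpObj G]

/-- the morphism to the base change of the base -/
abbrev ptY {P : Scheme.{u}} (c : P ⟶ S) (Y : Over P) : Over.mk (Y.hom ≫ c) ⟶ Over.mk c := Over.homMk Y.hom rfl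

/-- the member of a family at a point -/
def famHom (f : H ⊗ T ⟶ G) {P : Scheme.{u}} (c : P ⟶ S) (p : Over.mk c ⟶ T) : Red.bc c H ⟶ Red.bc c G :=
  NilAction.ofBase c (lift (NilAction.toBase c (𝟙 (Red.bc c H))) (ptY c _ ≫ p) ≫ f)

theorem toBase_famHom (f : H ⊗ T ⟶ G) {P : Scheme.{u}} (c : P ⟶ S) (p : Over.mk c ⟶ T) {Y : Over P}
    (h : Y ⟶ Red.bc c H) :
    NilAction.toBase c (h ≫ famHom f c p) = lift (NilAction.toBase c h) (ptY c Y ≫ p) ≫ f := by
  let m : Over.mk (Y.hom ≫ c) ⟶ Over.mk ((Red.bc c H).hom ≫ c) := Over.homMk h.left (by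
    show h.left ≫ (Red.bc c H).hom ≫ c = Y.hom ≫ c
    rw [← Category.assoc, Over.w h])
  have h1 : NilAction.toBase c h = m ≫ NilAction.toBase c (𝟙 (Red.bc c H)) := by
    apply Over.OverMorphism.ext
    show h.left ≫ pullback.fst H.hom c = h.left ≫ 𝟙 _ ≫ pullback.fst H.hom c
    rw [Category.id_comp]
  have h2 : ptY c Y = m ≫ ptY c _ := Over.OverMorphism.ext (Over.w h).symm
  rw [h1, h2, Category.assoc, ← comp_lift_assoc]
  apply Over.OverMorphism.ext
  show (h.left ≫ (famHom f c p).left) ≫ pullback.fst G.hom c = h.left ≫ _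
  rw [Category.assoc]
  congr 1
  exact pullback.lift_fst _ _ _

theorem isMonHom_famHom (f : H ⊗ T ⟶ G) (hf : HomSmooth.MulOn f) {P : Scheme.{u}} (c : P ⟶ S)
    (p : Over.mk c ⟶ T) : IsMonHom (famHom f c p) := by
  refine Bridge.isMonHom_of_mul _ fun Y a b => ?_
  have h : NilAction.toBase c ((a * b) ≫ famHom f c p) =
      NilAction.toBase c ((a ≫ famHom f c p) * (b ≫ famHom f c p)) := by
    rw [toBase_famHom, NilAction.toBase_mul, hf, NilAction.toBase_mul, toBase_famHom, toBase_famHom]
  rw [← NilAction.ofBase_toBase c ((a * b) ≫ _), h, NilAction.ofBase_toBase]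

/-- central at every parameter -/
def CentralOn (f : H ⊗ T ⟶ G) : Prop :=
  ∀ (Y : Over S) (g : Y ⟶ G) (h : Y ⟶ H) (p : Y ⟶ T), g * (lift h p ≫ f) = (lift h p ≫ f) * g

theorem famHom_central (f : H ⊗ T ⟶ G) (hf : CentralOn f) {P : Scheme.{u}} (c : P ⟶ S) (p : Over.mk c ⟶ T)
    (Y : Over P) (g : Y ⟶ Red.bc c G) (h : Y ⟶ Red.bc c H) :
    g * (h ≫ famHom f c p) = (h ≫ famHom f c p) * g := by
  have e : NilAction.toBase c (g * (h ≫ famHom f c p)) = NilAction.toBase c ((h ≫ famHom f c p) * g) := by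
    rw [NilAction.toBase_mul, NilAction.toBase_mul, toBase_famHom]
    exact hf _ _ _ _
  rw [← NilAction.ofBase_toBase c (g * _), e, NilAction.ofBase_toBase]

/-- a central family of homomorphisms is constant along a locus open and closed in the square of the parameters -/
theorem exists_clopen_agree (hH : SGA3x.IsMultTypeFT H) [IsSeparated G.hom] [LocallyOfFinitePresentation G.hom]
    (f : H ⊗ T ⟶ G) (hf : HomSmooth.MulOn f) (hc : CentralOn f) :
    ∃ (W : Over S) (i : W ⟶ T ⊗ T), IsOpenImmersion i.left ∧ IsClosedImmersion i.left ∧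
      ∀ (T' : Over S) (x : T' ⟶ T ⊗ T), (∃ w, w ≫ i = x) ↔
        ∀ (X' : Over S) (t : X' ⟶ T') (h : X' ⟶ H),
          lift h (t ≫ x ≫ fst T T) ≫ f = lift h (t ≫ x ≫ snd T T) ≫ f := by
  have hl := Locus.locally_of_multTypeFT hH
  obtain ⟨W, i, hic, hil, hW⟩ := Locus.exists_agree hl (Y := G)
    (lift (snd (T ⊗ T) H) (fst (T ⊗ T) H ≫ fst T T) ≫ f) (lift (snd (T ⊗ T) H) (fst (T ⊗ T) H ≫ snd T T) ≫ f)
  have hW' : ∀ (T' : Over S) (x : T' ⟶ T ⊗ T), (∃ w, w ≫ i = x) ↔
      ∀ (X' : Over S) (t : X' ⟶ T') (h : X' ⟶ H),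
        lift h (t ≫ x ≫ fst T T) ≫ f = lift h (t ≫ x ≫ snd T T) ≫ f := fun T' x => (hW T' x).trans <| by
    simp only [← Category.assoc, comp_lift, lift_snd, lift_fst]
  refine ⟨W, i, ?_, hic, hW'⟩
  have := hil inferInstance
  have : Mono i := Over.mono_of_mono_left i
  have hfe : MoreMor.IsFormallyEtaleHom i.left := by
    intro A _ J hJ a b hab
    let c : Spec (CommRingCat.of A) ⟶ S := b ≫ (T ⊗ T).hom
    let x : Over.mk c ⟶ T ⊗ T := Over.homMk b rfl
    have hlA := Locus.locally_bc hl c
    have := isMonHom_famHom f hf c (x ≫ fst T T)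
    have := isMonHom_famHom f hf c (x ≫ snd T T)
    have heq : famHom f c (x ≫ fst T T) = famHom f c (x ≫ snd T T) := by
      refine Cocycle.eq_of_agree_of_central hlA ⟨2, hJ⟩ _ _ (famHom_central f hc c _) fun Y q h => ?_
      let y := ptY c Y
      have hq : q.left ≫ Spec.map (CommRingCat.ofHom (Ideal.Quotient.mk J)) = y.left := Over.w q
      let w : Over.mk (Y.hom ≫ c) ⟶ W := Over.homMk (q.left ≫ a) (by
        show (q.left ≫ a) ≫ W.hom = Y.hom ≫ b ≫ (T ⊗ T).hom
        rw [← Over.w i, Category.assoc, ← reassoc_of% hab, reassoc_of% hq]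
        rfl)
      have hwi : w ≫ i = y ≫ x := by
        apply Over.OverMorphism.ext
        show (q.left ≫ a) ≫ i.left = y.left ≫ b
        rw [Category.assoc, ← hab, reassoc_of% hq]
      have e := (hW' _ (y ≫ x)).1 ⟨w, hwi⟩ _ (𝟙 _) (NilAction.toBase c h)
      simp only [Category.id_comp, Category.assoc] at e
      rw [← NilAction.ofBase_toBase c (h ≫ famHom f c (x ≫ fst T T)),
        ← NilAction.ofBase_toBase c (h ≫ famHom f c (x ≫ snd T T)), toBase_famHom, toBase_famHom, e]
    obtain ⟨z, hz⟩ := (hW' _ x).2 fun X' t h => by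
      let Y : Over (Spec (CommRingCat.of A)) := Over.mk t.left
      let adj : Over.mk (Y.hom ≫ c) ⟶ X' := Over.homMk (𝟙 _) (by
        show 𝟙 _ ≫ X'.hom = t.left ≫ c
        rw [Category.id_comp]
        exact (Over.w t).symm)
      have : IsIso adj.left := inferInstanceAs (IsIso (𝟙 X'.left))
      have : IsIso ((Over.forget _).map adj) := this
      have : IsIso adj := isIso_of_reflects_iso _ (Over.forget _)
      have hpt : ptY c Y = adj ≫ t := Over.OverMorphism.ext (Category.id_comp _).symm
      have e := congrArg (fun m => NilAction.toBase c (NilAction.ofBase (Y := Y) c (adj ≫ h) ≫ m)) heq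
      simp only [toBase_famHom, NilAction.toBase_ofBase, hpt, Category.assoc] at e
      rw [← cancel_epi adj, comp_lift_assoc, comp_lift_assoc]
      exact e
    refine ⟨z.left, ⟨?_, ?_⟩, fun l hl => ?_⟩
    · rw [← cancel_mono i.left, Category.assoc, ← hab]
      congr 1
      exact congrArg (fun m => m.left) hz
    · exact congrArg (fun m => m.left) hz
    · rw [← cancel_mono i.left, hl.2]
      exact (congrArg (fun m => m.left) hz).symm
  have := Groth.L23.etale_of_lfp_of_formallyEtaleHom i.left hfe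
  exact IsOpenImmersion.of_flat_of_mono i.left

section

variable {S' : Scheme.{u}} {π : S' ⟶ S}

/-- a homomorphism over a base change as a family -/
def famOf (u' : Red.bc π H ⟶ Red.bc π G) : H ⊗ Over.mk π ⟶ G :=
  Over.homMk (u'.left ≫ pullback.fst G.hom π) (by
    show (u'.left ≫ pullback.fst G.hom π) ≫ G.hom = pullback.fst H.hom π ≫ H.hom
    rw [Category.assoc, pullback.condition, pullback.condition]
    exact (Category.assoc _ _ _).symm.trans (congrArg (· ≫ π) (Over.w u')))

theorem exists_adj (u' : Red.bc π H ⟶ Red.bc π G) {Y : Over S} (p : Y ⟶ Over.mk π) :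
    ∃ e : Over.mk ((Over.mk p.left).hom ≫ π) ≅ Y, ∀ h : Y ⟶ H, e.hom ≫ lift h p ≫ famOf u' =
      NilAction.toBase π (NilAction.ofBase π (e.hom ≫ h) ≫ u') := by
  refine ⟨Over.isoMk (Iso.refl _) (by
    show 𝟙 _ ≫ Y.hom = p.left ≫ π
    rw [Category.id_comp]
    exact (Over.w p).symm), fun h => ?_⟩
  apply Over.OverMorphism.ext
  show 𝟙 _ ≫ (lift h p).left ≫ u'.left ≫ pullback.fst G.hom π =
    ((NilAction.ofBase π (Y := Over.mk p.left) (_ ≫ h)).left ≫ u'.left) ≫ pullback.fst G.hom π
  rw [Category.id_comp, Category.assoc]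
  congr 1

theorem mulOn_famOf (u' : Red.bc π H ⟶ Red.bc π G) [IsMonHom u'] : HomSmooth.MulOn (famOf u') := by
  intro Y p a b
  obtain ⟨e, he⟩ := exists_adj u' p
  rw [← cancel_epi e.hom, MonObj.comp_mul, he, he, he, MonObj.comp_mul, ← NilAction.toBase_mul, ← MonObj.mul_comp]
  congr 2
  have h := NilAction.toBase_mul π (NilAction.ofBase π (e.hom ≫ a)) (NilAction.ofBase π (e.hom ≫ b))
  rw [NilAction.toBase_ofBase, NilAction.toBase_ofBase] at h
  rw [← h, NilAction.ofBase_toBase]

theorem centralOn_famOf (u' : Red.bc π H ⟶ Red.bc π G)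
    (hc : ∀ (X : Over S') (g : X ⟶ Red.bc π G) (h : X ⟶ Red.bc π H), g * (h ≫ u') = (h ≫ u') * g) :
    CentralOn (famOf u') := by
  intro Y g h p
  obtain ⟨e, he⟩ := exists_adj u' p
  have h1 := congrArg (NilAction.toBase π) (hc _ (NilAction.ofBase π (e.hom ≫ g)) (NilAction.ofBase π (e.hom ≫ h)))
  rw [NilAction.toBase_mul, NilAction.toBase_mul, NilAction.toBase_ofBase] at h1
  rw [← cancel_epi e.hom, MonObj.comp_mul, MonObj.comp_mul, he]
  exact h1

theorem fst_map_iff (u' : Red.bc π H ⟶ Red.bc π G) (v : H ⟶ G) :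
    fst H (Over.mk π) ≫ v = famOf u' ↔ (Over.pullback π).map v = u' := by
  constructor
  · intro hv
    apply Over.OverMorphism.ext
    apply pullback.hom_ext
    · exact (pullback.lift_fst _ _ _).trans (congrArg (fun m => m.left) hv)
    · exact (pullback.lift_snd _ _ _).trans (Over.w u').symm
  · intro hv
    subst hv
    apply Over.OverMorphism.ext
    exact (pullback.lift_fst _ _ _).symm

end

/-- descent of central homomorphisms -/
theorem exists_unique_hom {S' : Scheme.{u}} (hH : SGA3x.IsMultTypeFT H) [IsSeparated G.hom]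
    [LocallyOfFinitePresentation G.hom] (π : S' ⟶ S) [Flat π] [Surjective π]
    (hcov : ∀ V : S.Opens, IsAffineOpen V → ∃ W : S'.Opens, IsCompact (W : Set S') ∧ π.base '' (W : Set S') = (V : Set S))
    (hconn : ∀ s : S, ConnectedSpace ↥(pullback π (Red.geomPt s)))
    (u' : Red.bc π H ⟶ Red.bc π G) [IsMonHom u']
    (hc : ∀ (X : Over S') (g : X ⟶ Red.bc π G) (h : X ⟶ Red.bc π H), g * (h ≫ u') = (h ≫ u') * g) :
    ∃! v : H ⟶ G, IsMonHom v ∧ (Over.pullback π).map v = u' := by
  let T' : Over S := Over.mk π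
  let f := famOf u'
  have hfm := mulOn_famOf u'
  obtain ⟨W, i, hio, hic, hW⟩ := exists_clopen_agree hH f hfm (centralOn_famOf u' hc)
  obtain ⟨d, hd⟩ := (hW T' (lift (𝟙 T') (𝟙 T'))).2 fun X' t h => by
    rw [lift_fst, lift_snd]
  have hdl : d.left ≫ i.left = pullback.diagonal π := by
    refine (congrArg (fun m : T' ⟶ T' ⊗ T' => m.left) hd).trans ?_
    apply pullback.hom_ext
    · exact (congrArg (fun m : T' ⟶ T' => m.left) (lift_fst (𝟙 T') (𝟙 T'))).trans (pullback.diagonal_fst π).symm
    · exact (congrArg (fun m : T' ⟶ T' => m.left) (lift_snd (𝟙 T') (𝟙 T'))).trans (pullback.diagonal_snd π).symm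
  have : Surjective i.left := surjective_of_diagonal π hconn i.left d.left hdl
  have : IsIso i.left := (isIso_iff_isOpenImmersion_and_surjective _).2 ⟨hio, this⟩
  have : IsIso ((Over.forget S).map i) := ‹_›
  have : IsIso i := isIso_of_reflects_iso _ (Over.forget S)
  have key : ∀ (Z : Over S) (a : Z ⟶ H) (p₁ p₂ : Z ⟶ T'), lift a p₁ ≫ f = lift a p₂ ≫ f := by
    intro Z a p₁ p₂
    have h := (hW Z (lift p₁ p₂)).1 ⟨lift p₁ p₂ ≫ inv i, by simp⟩ Z (𝟙 Z) a
    simpa using h
  let q := fst H T'
  have hq : EffectiveEpi q.left := effectiveEpi_pullback_fst H.hom π hcov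
  obtain ⟨v, hv, hvu⟩ := Actions.existsUnique_desc q f fun Z g₁ g₂ hg => by
    have h1 : ∀ g : Z ⟶ H ⊗ T', g = lift (g ≫ q) (g ≫ snd H T') := fun g => by
      rw [← comp_lift, lift_fst_snd, Category.comp_id]
    rw [h1 g₁, h1 g₂, hg]
    exact key _ _ _ _
  have hmul : ∀ (Y : Over S) (a b : Y ⟶ H), (a * b) ≫ v = (a ≫ v) * (b ≫ v) := by
    intro Y a b
    have hpe : EffectiveEpi (fst Y T').left := effectiveEpi_pullback_fst Y.hom π hcov
    have : Epi (fst Y T') := Over.epi_of_epi_left _
    rw [← cancel_epi (fst Y T'), MonObj.comp_mul]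
    have e : ∀ c : Y ⟶ H, fst Y T' ≫ c ≫ v = lift (fst Y T' ≫ c) (snd Y T') ≫ f := fun c => by
      rw [← hv, lift_fst_assoc, Category.assoc]
    rw [e, e, e, MonObj.comp_mul]
    exact hfm _ _ _ _
  refine ⟨v, ⟨Bridge.isMonHom_of_mul v hmul, (fst_map_iff u' v).1 hv⟩, fun w hw => ?_⟩
  exact hvu w ((fst_map_iff u' w).2 hw.2)

end Groth.L25.Descent
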