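import Groth.Agent.L25.Descent.CentralHom
import Groth.Agent.L25.MultTypeBC
import Groth.Agent.L25.NhdEq.EqLocus
import Groth.Agent.S5304

/-!
# Central subgroups of multiplicative type over a covering with connected fibres carry a descent datum
-/

set_option autoImplicit false
universe u

open CategoryTheory CategoryTheory.Limits MonoidalCategory CartesianMonoidalCategory
open AlgebraicGeometry
open scoped MonObj

set_option backward.isDefEq.respectTransparency.types false

noncomputable section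

namespace Groth.L25.Descent

variable {S S' P : Scheme.{u}} {π : S' ⟶ S} {G : Over S} [GrpObj G] {H' : Over S'} [GrpObj H']
  (j' : H' ⟶ Red.bc π G)

/-- the pulled back subgroup in the pulled back group -/
def pullInc (p : P ⟶ S') {c : P ⟶ S} (h : p ≫ π = c) : Red.bc p H' ⟶ Red.bc c G :=
  (Over.pullback p).map j' ≫ (ActBC.bcCompIso p π G h).hom

instance isMonHom_pullInc [IsMonHom j'] (p : P ⟶ S') {c : P ⟶ S} (h : p ≫ π = c) : IsMonHom (pullInc j' p h) := by
  unfold pullInc
  infer_instance

omit [GrpObj G] [GrpObj H'] in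
theorem pullInc_fst (p : P ⟶ S') {c : P ⟶ S} (h : p ≫ π = c) :
    (pullInc j' p h).left ≫ pullback.fst G.hom c = pullback.fst H'.hom p ≫ j'.left ≫ pullback.fst G.hom π := by
  show (((Over.pullback p).map j').left ≫ (ActBC.bcCompIso p π G h).hom.left) ≫ _ = _
  rw [Category.assoc, ActBC.bcCompIso_hom_left_fst]
  exact ((Category.assoc _ _ _).symm.trans (congrArg (· ≫ pullback.fst G.hom π) (pullback.lift_fst _ _ _))).trans
    (Category.assoc _ _ _)

omit [GrpObj G] [GrpObj H'] in
theorem isImmersion_pullInc [IsImmersion j'.left] (p : P ⟶ S') {c : P ⟶ S} (h : p ≫ π = c) :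
    IsImmersion (pullInc j' p h).left := by
  have hsq : IsPullback ((Over.pullback p).map j').left (pullback.fst H'.hom p) (pullback.fst (Red.bc π G).hom p)
      j'.left := by
    refine IsPullback.of_right ?_ (pullback.lift_fst _ _ _) (IsPullback.of_hasPullback (Red.bc π G).hom p).flip
    show IsPullback (((Over.pullback p).map j').left ≫ (Red.bc p (Red.bc π G)).hom) _ _
      (j'.left ≫ (Red.bc π G).hom)
    rw [Over.w, Over.w]
    exact (IsPullback.of_hasPullback H'.hom p).flip
  have : IsImmersion ((Over.pullback p).map j').left := MorphismProperty.of_isPullback hsq.flip inferInstance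
  have : IsIso (ActBC.bcCompIso p π G h).hom.left :=
    inferInstanceAs (IsIso ((Over.forget _).map (ActBC.bcCompIso p π G h).hom))
  show IsImmersion (((Over.pullback p).map j').left ≫ (ActBC.bcCompIso p π G h).hom.left)
  infer_instance

theorem pullInc_central (hc : ∀ (X : Over S') (g : X ⟶ Red.bc π G) (h : X ⟶ H'), g * (h ≫ j') = (h ≫ j') * g)
    (p : P ⟶ S') {c : P ⟶ S} (h : p ≫ π = c) (Y : Over P) (g : Y ⟶ Red.bc c G) (a : Y ⟶ Red.bc p H') :
    g * (a ≫ pullInc j' p h) = (a ≫ pullInc j' p h) * g := by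
  let e := ActBC.bcCompIso p π G h
  let g' := g ≫ e.inv
  have hg : g = g' ≫ e.hom := by rw [Category.assoc, e.inv_hom_id, Category.comp_id]
  have key : g' * (a ≫ (Over.pullback p).map j') = (a ≫ (Over.pullback p).map j') * g' := by
    have h1 : NilAction.toBase p (g' * (a ≫ (Over.pullback p).map j')) =
        NilAction.toBase p ((a ≫ (Over.pullback p).map j') * g') := by
      rw [NilAction.toBase_mul, NilAction.toBase_mul, Locus.toBase_map]
      exact hc _ _ _
    rw [← NilAction.ofBase_toBase p (g' * (a ≫ (Over.pullback p).map j')), h1, NilAction.ofBase_toBase]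
  rw [hg, show a ≫ pullInc j' p h = (a ≫ (Over.pullback p).map j') ≫ e.hom from (Category.assoc _ _ _).symm,
    ← MonObj.mul_comp, ← MonObj.mul_comp, key]

/-- the pulled back subgroups agree on the square of the covering -/
theorem exists_fac_square [IsSeparated G.hom] [LocallyOfFinitePresentation G.hom] [QuasiCompact G.hom]
    [QuasiSeparated G.hom] (hH' : SGA3x.IsMultTypeFT H') [IsMonHom j'] [IsImmersion j'.left]
    (hc : ∀ (X : Over S') (g : X ⟶ Red.bc π G) (h : X ⟶ H'), g * (h ≫ j') = (h ≫ j') * g)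
    (hconn : ∀ s : S, ConnectedSpace ↥(pullback π (Red.geomPt s)))
    (X : Over (pullback π π)) (h : X ⟶ Red.bc (pullback.fst π π) H') :
    ∃ h' : X ⟶ Red.bc (pullback.snd π π) H',
      h' ≫ pullInc j' (pullback.snd π π) pullback.condition.symm = h ≫ pullInc j' (pullback.fst π π) rfl := by
  let p₁ := pullback.fst π π
  let p₂ := pullback.snd π π
  let c := p₁ ≫ π
  let i₁ := pullInc j' p₁ (c := c) rfl
  let i₂ := pullInc j' p₂ (c := c) pullback.condition.symm
  have : IsImmersion i₁.left := isImmersion_pullInc j' _ _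
  have : IsImmersion i₂.left := isImmersion_pullInc j' _ _
  have : Mono i₁ := Over.mono_of_mono_left i₁
  have : Mono i₂ := Over.mono_of_mono_left i₂
  have : IsSeparated (Red.bc c G).hom := MorphismProperty.pullback_snd G.hom c ‹_›
  have hG : LocallyOfFinitePresentation (Red.bc c G).hom ∧ QuasiCompact (Red.bc c G).hom ∧
      QuasiSeparated (Red.bc c G).hom :=
    ⟨MorphismProperty.pullback_snd G.hom c ‹_›, MorphismProperty.pullback_snd G.hom c ‹_›,
      MorphismProperty.pullback_snd G.hom c ‹_›⟩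
  obtain ⟨U, hUc, hU, ψ, hψ⟩ := Groth.Agent.S5304.result (Red.bc c G) (Red.bc p₁ H') (Red.bc p₂ H')
    (Or.inr hG) (MultTypeBC.isMultTypeFT_bc hH' p₁) (MultTypeBC.isMultTypeFT_bc hH' p₂) i₁ i₂
    (pullInc_central j' hc p₁ rfl)
  let Δ := pullback.diagonal π
  -- the diagonal lies in the locus
  have hdiag : ∀ (k₁ k₂ : pullback π π ⟶ S') (e₁ : k₁ ≫ π = c) (e₂ : k₂ ≫ π = c), Δ ≫ k₁ = Δ ≫ k₂ →
      ∀ (Y : Over (pullback π π)) (v : Y.left ⟶ S'), v ≫ Δ = Y.hom → ∀ a : Y ⟶ Red.bc k₁ H',
        ∃ a' : Y ⟶ Red.bc k₂ H', a' ≫ pullInc j' k₂ e₂ = a ≫ pullInc j' k₁ e₁ := by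
    intro k₁ k₂ e₁ e₂ hk Y v hv a
    let x : Over.mk (Y.hom ≫ k₂) ⟶ H' := Over.homMk (a.left ≫ pullback.fst H'.hom k₁) (by
      show (a.left ≫ pullback.fst H'.hom k₁) ≫ H'.hom = Y.hom ≫ k₂
      rw [Category.assoc, pullback.condition]
      refine (Category.assoc _ _ _).symm.trans ((congrArg (· ≫ k₁) (Over.w a)).trans ?_)
      rw [← hv, Category.assoc, Category.assoc, hk])
    refine ⟨NilAction.ofBase k₂ x, ?_⟩
    apply Over.OverMorphism.ext
    apply pullback.hom_ext
    · have h2 : ((NilAction.ofBase k₂ x).left ≫ (pullInc j' k₂ e₂).left) ≫ pullback.fst G.hom c =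
          x.left ≫ j'.left ≫ pullback.fst G.hom π := by
        rw [Category.assoc, pullInc_fst, ← Category.assoc]
        congr 1
        exact pullback.lift_fst _ _ _
      refine h2.trans ?_
      show (a.left ≫ pullback.fst H'.hom k₁) ≫ _ = (a.left ≫ (pullInc j' k₁ e₁).left) ≫ _
      rw [Category.assoc, Category.assoc, pullInc_fst]
    · exact (Over.w (NilAction.ofBase k₂ x ≫ pullInc j' k₂ e₂)).trans (Over.w (a ≫ pullInc j' k₁ e₁)).symm
  have hΔ : Δ ≫ p₁ = Δ ≫ p₂ := (pullback.diagonal_fst π).trans (pullback.diagonal_snd π).symm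
  have hdU : Set.range Δ ⊆ (U : Set ↥(pullback π π)) := by
    rintro _ ⟨x, rfl⟩
    refine (hU _).2 ((NhdEq.eqAt_iff i₁ i₂ _).1 ⟨?_, ?_⟩)
    all_goals
      intro Y w hw a
      refine NhdEq.fac_descend _ _ (jL := S'.fromSpecResidueField x ≫ Δ) (fun Y w hw a => ?_) _ ?_ Y w hw a
    · exact hdiag p₁ p₂ rfl pullback.condition.symm hΔ Y (w ≫ S'.fromSpecResidueField x)
        (by rw [Category.assoc, hw]) a
    · exact (Scheme.Hom.comp_apply _ _ _).trans (congrArg Δ (Scheme.fromSpecResidueField_apply x _))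
    · exact hdiag p₂ p₁ pullback.condition.symm rfl hΔ.symm Y (w ≫ S'.fromSpecResidueField x)
        (by rw [Category.assoc, hw]) a
    · exact (Scheme.Hom.comp_apply _ _ _).trans (congrArg Δ (Scheme.fromSpecResidueField_apply x _))
  have : IsClosedImmersion U.ι := IsClosedImmersion.of_isPreimmersion _ (by rw [Scheme.Opens.range_ι]; exact hUc)
  have hsurj : Surjective U.ι := surjective_of_diagonal π hconn U.ι
    (IsOpenImmersion.lift U.ι Δ (by rw [Scheme.Opens.range_ι]; exact hdU)) (IsOpenImmersion.lift_fac _ _ _)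
  have hX : Set.range X.hom ⊆ Set.range U.ι := fun z _ => U.ι.surjective z
  exact NhdEq.fac_of_map U.ι i₁ i₂ ψ.hom hψ X (IsOpenImmersion.lift U.ι X.hom hX)
    (IsOpenImmersion.lift_fac _ _ _) h

/-- the graph of the subgroup as a family -/
def famInc : Over.mk (H'.hom ≫ π) ⟶ G ⊗ Over.mk π :=
  Over.homMk j'.left (by
    show j'.left ≫ pullback.fst G.hom π ≫ G.hom = H'.hom ≫ π
    rw [pullback.condition]
    exact (Category.assoc _ _ _).symm.trans (congrArg (· ≫ π) (Over.w j')))

/-- a point lies in the subgroup at a parameter -/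
def Mem {Y : Over S} (x : Y ⟶ G) (p : Y ⟶ Over.mk π) : Prop := ∃ w, w ≫ famInc j' = lift x p

omit [GrpObj G] [GrpObj H'] in
theorem mem_comp {Y Z : Over S} {x : Y ⟶ G} {p : Y ⟶ Over.mk π} (t : Z ⟶ Y) (h : Mem j' x p) :
    Mem j' (t ≫ x) (t ≫ p) := by
  obtain ⟨w, hw⟩ := h
  exact ⟨t ≫ w, by rw [Category.assoc, hw, comp_lift]⟩

/-- membership does not depend on the parameter -/
theorem mem_indep [IsSeparated G.hom] [LocallyOfFinitePresentation G.hom] [QuasiCompact G.hom]
    [QuasiSeparated G.hom] (hH' : SGA3x.IsMultTypeFT H') [IsMonHom j'] [IsImmersion j'.left]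
    (hc : ∀ (X : Over S') (g : X ⟶ Red.bc π G) (h : X ⟶ H'), g * (h ≫ j') = (h ≫ j') * g)
    (hconn : ∀ s : S, ConnectedSpace ↥(pullback π (Red.geomPt s)))
    {Y : Over S} (x : Y ⟶ G) (p q : Y ⟶ Over.mk π) (h : Mem j' x p) : Mem j' x q := by
  obtain ⟨w, hw⟩ := h
  have hwj : w.left ≫ j'.left = (lift x p).left := congrArg (fun m => m.left) hw
  have hwH : w.left ≫ H'.hom = p.left := by
    refine (congrArg (w.left ≫ ·) (Over.w j').symm).trans ?_
    exact ((Category.assoc _ _ _).symm.trans (congrArg (· ≫ pullback.snd G.hom π) hwj)).trans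
      (congrArg (fun m : Y ⟶ Over.mk π => m.left) (lift_snd x p))
  let pq : Y.left ⟶ pullback π π := pullback.lift p.left q.left ((Over.w p).trans (Over.w q).symm)
  let X : Over (pullback π π) := Over.mk pq
  let a : X ⟶ Red.bc (pullback.fst π π) H' :=
    NilAction.ofBase (pullback.fst π π) (Over.homMk w.left (by
      show w.left ≫ H'.hom = pq ≫ pullback.fst π π
      rw [hwH, pullback.lift_fst]))
  obtain ⟨a', ha'⟩ := exists_fac_square j' hH' hc hconn X a
  let w' := a'.left ≫ pullback.fst H'.hom (pullback.snd π π)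
  have hw' : w' ≫ H'.hom = q.left := by
    rw [Category.assoc, pullback.condition]
    exact ((Category.assoc _ _ _).symm.trans (congrArg (· ≫ pullback.snd π π) (Over.w a'))).trans
      (pullback.lift_snd _ _ _)
  refine ⟨Over.homMk w' (by
    show w' ≫ H'.hom ≫ π = Y.hom
    rw [reassoc_of% hw']
    exact Over.w q), Over.OverMorphism.ext ?_⟩
  show w' ≫ j'.left = (lift x q).left
  apply pullback.hom_ext
  · refine Eq.trans ?_ (congrArg (fun m : Y ⟶ G => m.left) (lift_fst x q)).symm
    have h1 := congrArg (fun m => m.left ≫ pullback.fst G.hom (pullback.fst π π ≫ π)) ha'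
    simp only [Over.comp_left, Category.assoc, pullInc_fst] at h1
    have h3 : a.left ≫ pullback.fst H'.hom (pullback.fst π π) = w.left := pullback.lift_fst _ _ _
    rw [reassoc_of% h3, reassoc_of% hwj] at h1
    refine ((Category.assoc _ _ _).trans (Category.assoc _ _ _)).trans (h1.trans ?_)
    exact congrArg (fun m : Y ⟶ G => m.left) (lift_fst x p)
  · refine Eq.trans ?_ (congrArg (fun m : Y ⟶ Over.mk π => m.left) (lift_snd x q)).symm
    exact (Category.assoc _ _ _).trans ((congrArg (w' ≫ ·) (Over.w j')).trans hw')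

end Groth.L25.Descent
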